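import Cfsg.Agent.Spor.O351.S.D0

set_option autoImplicit false
set_option maxRecDepth 100000000
set_option Elab.async false

namespace Cfsg.Agent.Spor.O351.S

theorem gr4 : sub M3 (U.growI W2 [2, 3, 4, 5, 6, 7, 6, 5, 3, 2, 1, 2, 3, 4, 5] (Nat.shiftLeft 1 7)) = true := by decide +kernel

theorem sd6 : U.sends [3, 1, 5, 3] 0 7 = true := by decide +kernel

theorem gr7 : sub (ones 351) (U.growI ([3, 1, 5, 3] :: W2) [0, 3, 4, 5, 6, 7, 8, 7, 6, 4, 3, 2, 0, 3, 4, 5, 6, 7, 8, 4, 3] (Nat.shiftLeft 1 0)) = true := by decide +kernel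

theorem gr10 : sub M9 (U.growI W2 [0, 1, 2, 3, 4, 5, 6, 7, 6, 5, 3, 2, 1, 2, 3, 4, 5, 6, 7, 6, 5, 3, 4] (Nat.shiftLeft 1 1)) = true := by decide +kernel

theorem sd12 : U.sends [3] 0 1 = true := by decide +kernel

theorem gr13 : sub (ones 351) (U.growI ([3] :: W2) [0, 1, 2, 3, 4, 5, 6, 7, 8, 7, 6, 4, 3, 2, 0, 1, 2, 3, 4, 5, 6, 7, 8, 7] (Nat.shiftLeft 1 0)) = true := by decide +kernel

theorem ff15 : U.fixFrom 9 351 1 = true := by decide +kernel

theorem ff16 : U.fixFrom 9 351 3 = true := by decide +kernel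

theorem ff17 : U.fixFrom 9 351 5 = true := by decide +kernel

theorem ff18 : U.fixFrom 9 351 7 = true := by decide +kernel

theorem ff19 : U.fixFrom 9 351 9 = true := by decide +kernel

theorem ff20 : U.fixFrom 9 351 11 = true := by decide +kernel

theorem ff21 : U.fixFrom 9 351 13 = true := by decide +kernel

theorem ff22 : U.fixFrom 9 351 15 = true := by decide +kernel

end Cfsg.Agent.Spor.O351.S
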