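import Cfsg.Agent.Spor.Chk2
import Cfsg.Agent.Spor.O351.D0

set_option autoImplicit false
set_option maxRecDepth 100000000
set_option Elab.async false
noncomputable section

namespace Cfsg.Agent.Spor.O351.S

def W1 : List (List Nat) := [[1], [3], [5], [7], [9], [11], [13], [15]]

def W2 : List (List Nat) := [[1], [5], [7], [9], [11], [13], [15], [17]]

def M3 : Nat := nat_lit 0x200009000445002224a101112560442495e248cafc651bf8b67f8bcfc5e786e30e641f481f407c06080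

def M9 : Nat := nat_lit 0x7ffffdffff6fffbbaffdddb5efeeeda9fbbdb6a1db735039ae407498074303a18791cf19be0b7e0bf83f9f7e

def U : Tab := ⟨[n0, n1, n2, n3, n4, n5, n6, n7, n8], [⟨0, false, 0, 0, []⟩, ⟨0, false, 0, 0, []⟩, ⟨0, true, 0, 0, []⟩, ⟨1, false, 0, 0, []⟩, ⟨1, true, 0, 0, []⟩, ⟨2, false, 0, 0, []⟩, ⟨2, true, 0, 0, []⟩, ⟨3, false, 0, 0, []⟩, ⟨3, true, 0, 0, []⟩, ⟨4, false, 0, 0, []⟩, ⟨4, true, 0, 0, []⟩, ⟨5, false, 0, 0, []⟩, ⟨5, true, 0, 0, []⟩, ⟨6, false, 0, 0, []⟩, ⟨6, true, 0, 0, []⟩, ⟨7, false, 0, 0, []⟩, ⟨7, true, 0, 0, []⟩, ⟨8, false, 0, 0, []⟩, ⟨8, true, 0, 0, []⟩]⟩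

end Cfsg.Agent.Spor.O351.S
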